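import Groth.Agent.Etcore.HpullCalc
import Groth.Agent.EtpbcB.TorsEtN
import Groth.Agent.Etrest.IsoInv
import Groth.Agent.S0101
import Groth.Prelude.Def_EtAcyc

/-!
# Bijectivity of pullback maps on cohomology in a range, dimension shifting

`Rng k G n`: the pullback maps `H^q(T, G) → H^q(T', k⁻¹G)` are bijective for `q ≤ n` and injective for
`q = n + 1`.
* `Rng.shift`: on a class of sheaves on `X` (pulled back along `a : T ⟶ X`), from embeddings in sheaves of
  the class satisfying `Rng`;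
* `isOrd_primesIn`: `{m | PrimesIn L m}` is a set of allowed orders (`EtAcyc.IsLTorsion L` is
  `TorsEtN.TorsionN {m | PrimesIn L m}` by definition);
* `Rng.of_torsN`: reduction to the sheaves `torsN J`, `J` injective.
-/

set_option autoImplicit false
universe u

open CategoryTheory CategoryTheory.Limits AlgebraicGeometry Opposite
open scoped Groth.Agent.Etcore.EtInst
open Groth.Agent.Etcore.EtInst Groth.Agent.Etcore.HpullCalc
open Groth.Agent.EtpbcB.TorsSubN Groth.Agent.EtpbcB.TorsEtN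

namespace Groth.Agent.Etbc.H233.Shift

theorem pfl {X Y : Scheme.{u}} (f : X ⟶ Y) : PreservesFiniteLimits (EtCoh.pull f) :=
  Groth.Agent.S0101.result f

attribute [local instance] pfl

variable {X Y T T' T'' : Scheme.{u}}

/-- Bijectivity of the pullback maps in degrees `≤ n`, injectivity in degree `n + 1`. -/
def Rng (k : T' ⟶ T) (G : EtCoh.Ab T) (n : ℕ) : Prop :=
  (∀ q ≤ n, Function.Bijective (hp k G q)) ∧ Function.Injective (hp k G (n + 1))

theorem Rng.of_iso {k : T' ⟶ T} {G G' : EtCoh.Ab T} {n : ℕ} (h : Rng k G n) (e : G ≅ G') : Rng k G' n :=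
  ⟨fun q hq => bijective_hp_of_iso k e (h.1 q hq),
    Etcore.ExtMap.injective_of_iso (EtCoh.pull k) (EtCore.pullConst k ℤ).inv e h.2⟩

theorem Rng.mono {k : T' ⟶ T} {G : EtCoh.Ab T} {n m : ℕ} (h : Rng k G n) (hm : m ≤ n) : Rng k G m := by
  refine ⟨fun q hq => h.1 q (hq.trans hm), ?_⟩
  rcases hm.eq_or_lt with rfl | h1
  · exact h.2
  · exact (h.1 (m + 1) h1).1

/-- Dimension shifting along a short exact sequence. -/
theorem Rng.of_shortExact {k : T' ⟶ T} {S : ShortComplex (EtCoh.Ab T)} (hS : S.ShortExact) {n : ℕ}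
    (h2 : Rng k S.X₂ n) (h3 : (∀ q < n, Function.Bijective (hp k S.X₃ q)) ∧
      Function.Injective (hp k S.X₃ n)) : Rng k S.X₁ n := by
  have h3i : ∀ q ≤ n, Function.Injective (hp k S.X₃ q) := fun q hq => by
    rcases hq.eq_or_lt with rfl | h1
    · exact h3.2
    · exact (h3.1 q h1).1
  refine ⟨fun q hq => ?_, ?_⟩
  · cases q with
    | zero =>
      exact ⟨Etcore.ExtMap.injective₁_zero (EtCoh.pull k) (EtCore.pullConst k ℤ).inv hS (h2.1 0 hq).1,
        Etcore.ExtMap.surjective₁_zero (EtCoh.pull k) (EtCore.pullConst k ℤ).inv hS (h2.1 0 hq).2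
          (h3i 0 hq)⟩
    | succ q =>
      exact ⟨Etcore.ExtMap.injective₁ (EtCoh.pull k) (EtCore.pullConst k ℤ).inv hS rfl
          (h2.1 q (by omega)).2 (h3i q (by omega)) (h2.1 (q + 1) hq).1,
        Etcore.ExtMap.surjective₁ (EtCoh.pull k) (EtCore.pullConst k ℤ).inv hS rfl
          (h3.1 q (by omega)).2 (h2.1 (q + 1) hq).2 (h3i (q + 1) hq)⟩
  · exact Etcore.ExtMap.injective₁ (EtCoh.pull k) (EtCore.pullConst k ℤ).inv hS rfl
      (h2.1 n le_rfl).2 (h3i n le_rfl) h2.2

/-- If every sheaf of the class `P` embeds in a sheaf satisfying `Rng`, with cokernel in `P`, then all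
sheaves of the class satisfy `Rng`. -/
theorem Rng.shift (k : T' ⟶ T) (a : T ⟶ X) (P : EtCoh.Ab X → Prop) (n : ℕ)
    (eff : ∀ F, P F → ∃ (J : EtCoh.Ab X) (i : F ⟶ J), Mono i ∧ P (cokernel i) ∧
      Rng k ((EtCoh.pull a).obj J) n) (F : EtCoh.Ab X) (hF : P F) :
    Rng k ((EtCoh.pull a).obj F) n := by
  have inj0 : ∀ F, P F → Function.Injective (hp k ((EtCoh.pull a).obj F) 0) := fun F hF => by
    obtain ⟨J, i, hi, -, h2⟩ := eff F hF
    have hS : (ShortComplex.mk i (cokernel.π i) (cokernel.condition i)).ShortExact :=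
      { exact := ShortComplex.exact_cokernel _
        mono_f := hi
        epi_g := inferInstanceAs (Epi (cokernel.π _)) }
    exact Etcore.ExtMap.injective₁_zero (EtCoh.pull k) (EtCore.pullConst k ℤ).inv
      (hS.map_of_exact (EtCoh.pull a)) (h2.1 0 (Nat.zero_le _)).1
  have key : ∀ m ≤ n, ∀ F, P F → Rng k ((EtCoh.pull a).obj F) m := by
    intro m
    induction m with
    | zero =>
      intro _ F hF
      obtain ⟨J, i, hi, hc, h2⟩ := eff F hF
      have hS : (ShortComplex.mk i (cokernel.π i) (cokernel.condition i)).ShortExact :=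
        { exact := ShortComplex.exact_cokernel _
          mono_f := hi
          epi_g := inferInstanceAs (Epi (cokernel.π _)) }
      exact Rng.of_shortExact (hS.map_of_exact (EtCoh.pull a)) (h2.mono (Nat.zero_le _))
        ⟨fun q hq => absurd hq (Nat.not_lt_zero _), inj0 _ hc⟩
    | succ m ih =>
      intro hm F hF
      obtain ⟨J, i, hi, hc, h2⟩ := eff F hF
      have hS : (ShortComplex.mk i (cokernel.π i) (cokernel.condition i)).ShortExact :=
        { exact := ShortComplex.exact_cokernel _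
          mono_f := hi
          epi_g := inferInstanceAs (Epi (cokernel.π _)) }
      have h3 := ih (by omega) _ hc
      exact Rng.of_shortExact (hS.map_of_exact (EtCoh.pull a)) (h2.mono hm)
        ⟨fun q hq => h3.1 q (by omega), h3.2⟩
  exact key n le_rfl F hF

/-- `Rng` from vanishing in positive degrees and bijectivity in degree zero. -/
theorem Rng.of_van {k : T' ⟶ T} {G : EtCoh.Ab T} {n : ℕ} (h0 : Function.Bijective (hp k G 0))
    (h1 : ∀ q, 1 ≤ q → Subsingleton (HH T G q))
    (h2 : ∀ q, 1 ≤ q → q ≤ n → Subsingleton (HH T' ((EtCoh.pull k).obj G) q)) : Rng k G n := by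
  refine ⟨fun q hq => ?_, ?_⟩
  · cases q with
    | zero => exact h0
    | succ q =>
      have i1 := h1 (q + 1) (by omega)
      have i2 := h2 (q + 1) (by omega) hq
      exact ⟨Function.injective_of_subsingleton _, fun y => ⟨0, Subsingleton.elim _ _⟩⟩
  · have i1 := h1 (n + 1) (by omega)
    exact Function.injective_of_subsingleton _

/-- vanishing from `Rng`. -/
theorem Rng.subsingleton {k : T' ⟶ T} {G : EtCoh.Ab T} {n : ℕ} (h : Rng k G n) {q : ℕ}
    (h1 : Subsingleton (HH T G q)) (hq : q ≤ n) : Subsingleton (HH T' ((EtCoh.pull k).obj G) q) :=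
  (h.1 q hq).2.subsingleton

/-- The set of allowed orders attached to `L`. -/
abbrev Ord (L : Set ℕ) : Set ℕ := {m | EtAcyc.PrimesIn L m}

theorem isOrd_primesIn (L : Set ℕ) : IsOrd (Ord L) where
  one_mem := ⟨Nat.one_pos, fun _ hp h => absurd (Nat.dvd_one.1 h) hp.ne_one⟩
  mul_mem := fun h h' => ⟨Nat.mul_pos h.1 h'.1, fun p hp hd =>
    (hp.dvd_mul.1 hd).elim (h.2 p hp) (h'.2 p hp)⟩
  of_dvd := fun h h' => ⟨Nat.pos_of_dvd_of_pos h h'.1, fun p hp hd => h'.2 p hp (hd.trans h)⟩
  pos := fun h => h.1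

theorem isLTorsion_iff (L : Set ℕ) (F : EtCoh.Ab X) : EtAcyc.IsLTorsion L F ↔ TorsionN (Ord L) F :=
  Iff.rfl

/-- Reduction of `Rng` for all `L`-torsion sheaves to the sheaves `torsN J`, `J` injective. -/
theorem Rng.of_torsN (L : Set ℕ) (k : T' ⟶ T) (a : T ⟶ X) (n : ℕ)
    (h : ∀ (J : EtCoh.Ab X) [Injective J], Rng k ((EtCoh.pull a).obj (torsN (Ord L) J)) n)
    (F : EtCoh.Ab X) (hF : EtAcyc.IsLTorsion L F) : Rng k ((EtCoh.pull a).obj F) n := by
  refine Rng.shift k a (fun F => EtAcyc.IsLTorsion L F) n (fun F hF => ?_) F hF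
  obtain ⟨J, hJ, i, hi⟩ := exists_mono_torsN (N := Ord L) F hF
  exact ⟨_, i, hi, torsionN_of_epi (cokernel.π i) (torsionN_torsN (isOrd_primesIn L) J), h J⟩

end Groth.Agent.Etbc.H233.Shift
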