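import Groth.Agent.Etrest.HpullConst
import Groth.Agent.Etbase.PointBasics
import Groth.Agent.Etbc.H233.Shift
import Groth.Agent.S0099

/-!
# Bijectivity of pullback maps in a range passes to filtered colimits

`Rng.of_isColimit`: for `k : T' ⟶ T` between quasi-compact quasi-separated schemes, `Rng k - n` is stable
under filtered colimits.
-/

set_option autoImplicit false
universe u v w

open CategoryTheory CategoryTheory.Limits AlgebraicGeometry Opposite

namespace Groth.Agent.Etbc.H233.ColimRng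

open Groth.Agent.Etbc.H233.Shift

attribute [local instance] Shift.pfl

section abs

variable {C : Type w} [Category.{v} C] {J : Type u} [SmallCategory J] [IsFiltered J]
  {Φ Ψ : C ⥤ AddCommGrpCat.{u + 1}} (α : Φ ⟶ Ψ) {F : J ⥤ C} {c : Cocone F} (hc : IsColimit c)
  [PreservesColimitsOfShape J Φ] [PreservesColimitsOfShape J Ψ]

theorem preservesForget : PreservesColimitsOfShape J (forget AddCommGrpCat.{u + 1}) := by
  have := Groth.Agent.Etbase.PointBasics.preservesFilteredColimitsOfSize_forget.{u}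
  infer_instance

attribute [local instance] preservesForget

include hc in
omit [PreservesColimitsOfShape J Ψ] in
theorem surjective_of_isColimit' (x : Φ.obj c.pt) :
    ∃ (j : J) (y : Φ.obj (F.obj j)), Φ.map (c.ι.app j) y = x := by
  have h := isColimitOfPreserves (forget AddCommGrpCat.{u + 1}) (isColimitOfPreserves Φ hc)
  exact Types.jointly_surjective_of_isColimit h x

include hc in
omit [PreservesColimitsOfShape J Ψ] in
theorem eq_of_isColimit' (j : J) (y y' : Φ.obj (F.obj j))
    (h : Φ.map (c.ι.app j) y = Φ.map (c.ι.app j) y') :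
    ∃ (j' : J) (f : j ⟶ j'), Φ.map (F.map f) y = Φ.map (F.map f) y' := by
  have hcol := isColimitOfPreserves (forget AddCommGrpCat.{u + 1}) (isColimitOfPreserves Φ hc)
  obtain ⟨k, f, g, hfg⟩ := (Types.FilteredColimit.isColimit_eq_iff _ hcol (xi := y) (xj := y')).1 h
  let m := IsFiltered.coeq f g
  let e : k ⟶ m := IsFiltered.coeqHom f g
  refine ⟨m, f ≫ e, ?_⟩
  have h1 : Φ.map (F.map (f ≫ e)) y = Φ.map (F.map e) (Φ.map (F.map f) y) := by
    rw [F.map_comp, Φ.map_comp]; rfl
  have h2 : Φ.map (F.map (f ≫ e)) y' = Φ.map (F.map e) (Φ.map (F.map g) y') := by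
    rw [IsFiltered.coeq_condition f g, F.map_comp, Φ.map_comp]; rfl
  rw [h1, h2]
  exact congrArg (fun z => Φ.map (F.map e) z) hfg

theorem nat_apply {A B : C} (φ : A ⟶ B) (x : Φ.obj A) :
    α.app B (Φ.map φ x) = Ψ.map φ (α.app A x) :=
  ConcreteCategory.congr_hom (α.naturality φ) x

include hc in
theorem injective_of_isColimit (h : ∀ j, Function.Injective (α.app (F.obj j))) :
    Function.Injective (α.app c.pt) := by
  refine (injective_iff_map_eq_zero (α.app c.pt).hom).2 (fun x hx => ?_)
  obtain ⟨j, y, rfl⟩ := surjective_of_isColimit' (Φ := Φ) hc x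
  have h1 : Ψ.map (c.ι.app j) (α.app _ y) = Ψ.map (c.ι.app j) 0 := by
    rw [← nat_apply α, map_zero]
    exact hx
  obtain ⟨j', f, hf⟩ := eq_of_isColimit' (Φ := Ψ) hc j _ _ h1
  rw [← nat_apply α, map_zero] at hf
  have h2 : Φ.map (F.map f) y = 0 := h j' (hf.trans (map_zero (α.app (F.obj j')).hom).symm)
  have h3 : Φ.map (c.ι.app j) y = Φ.map (c.ι.app j') (Φ.map (F.map f) y) := by
    rw [← c.w f, Φ.map_comp]; rfl
  rw [h3, h2]
  exact map_zero (Φ.map (c.ι.app j')).hom

include hc in
omit [PreservesColimitsOfShape J Φ] in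
theorem surjective_of_isColimit (h : ∀ j, Function.Surjective (α.app (F.obj j))) :
    Function.Surjective (α.app c.pt) := by
  intro x
  obtain ⟨j, y, rfl⟩ := surjective_of_isColimit' (Φ := Ψ) hc x
  obtain ⟨z, rfl⟩ := h j y
  exact ⟨Φ.map (c.ι.app j) z, nat_apply α _ _⟩

end abs

variable {T T' : Scheme.{u}}

theorem rng_iff (k : T' ⟶ T) (G : EtCoh.Ab T) (n : ℕ) : Rng k G n ↔
    (∀ q ≤ n, Function.Bijective (EtCore.Hpull k G q)) ∧ Function.Injective (EtCore.Hpull k G (n + 1)) :=
  Iff.rfl

theorem preservesHpull (k : T' ⟶ T) [CompactSpace T'] [QuasiSeparatedSpace T'] (q : ℕ) (J : Type u)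
    [SmallCategory J] [IsFiltered J] :
    PreservesColimitsOfShape J (EtCoh.pull k ⋙ EtCoh.HF T' q) := by
  have h1 : PreservesColimitsOfShape J (EtCoh.HF T' q) := Groth.Agent.S0099.result T' q J
  have h2 : PreservesColimitsOfShape J (EtCoh.pull k) :=
    (EtCoh.pullPushAdj k).leftAdjoint_preservesColimits.1
  infer_instance

/-- `Rng` passes to filtered colimits. -/
theorem Rng.of_isColimit (k : T' ⟶ T) [CompactSpace T] [QuasiSeparatedSpace T] [CompactSpace T']
    [QuasiSeparatedSpace T'] {J : Type u} [SmallCategory J] [IsFiltered J] {F : J ⥤ EtCoh.Ab T}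
    {c : Cocone F} (hc : IsColimit c) (n : ℕ) (h : ∀ j, Rng k (F.obj j) n) : Rng k c.pt n := by
  have hT : ∀ q, PreservesColimitsOfShape J (EtCoh.HF T q) := fun q => Groth.Agent.S0099.result T q J
  have hT' := fun q => preservesHpull k q J
  rw [rng_iff]
  refine ⟨fun q hq => ⟨?_, ?_⟩, ?_⟩
  · exact injective_of_isColimit (Etrest.HpullConst.HpullNat k q) hc (fun j =>
      (((rng_iff _ _ _).1 (h j)).1 q hq).1)
  · exact surjective_of_isColimit (Etrest.HpullConst.HpullNat k q) hc (fun j =>
      (((rng_iff _ _ _).1 (h j)).1 q hq).2)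
  · exact injective_of_isColimit (Etrest.HpullConst.HpullNat k (n + 1)) hc (fun j =>
      ((rng_iff _ _ _).1 (h j)).2)

end Groth.Agent.Etbc.H233.ColimRng
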