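import Groth.Agent.EtpbcA.RpushTors
import Groth.Agent.EtpbcB.TorsEtN

/-!
# Direct images of `N`-torsion sheaves

`torsionN_push`: for `f` quasi-compact, `f_* F` is `N`-torsion if `F` is.
-/

set_option autoImplicit false
universe u

open CategoryTheory CategoryTheory.Limits AlgebraicGeometry Opposite

namespace Groth.Agent.Etbc.H233.LTorsPush

open Groth.Agent.Etbase Groth.Agent.EtpbcA.SectCoh Groth.Agent.EtpbcA.RpushTors
  Groth.Agent.EtpbcB.TorsSubN Groth.Agent.EtpbcB.TorsEtN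

variable {X Y : Scheme.{u}}

/-- Sections of an `N`-torsion sheaf over a quasi-compact etale scheme are killed by an element of `N`. -/
theorem exists_nsmul_eq_zero {N : Set ℕ} (hN : IsOrd N) (F : EtCoh.Ab X) (hF : TorsionN N F)
    (U : X.Etale) [CompactSpace U.left] (s : EtCoh.sect F U) : ∃ m : ℕ, m ∈ N ∧ m • s = 0 := by
  let W : N → Set U.left := fun m => {x | EtSections.VanishesAt F U ((m : ℕ) • s) x}
  have hW : ∀ m, IsOpen (W m) := fun m => EtSections.isOpen_vanishesAt F U _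
  have hcov : (⋃ m, W m) = Set.univ := by
    rw [Set.eq_univ_iff_forall]
    intro x
    obtain ⟨V, g, m, ⟨v, hv⟩, hm, hg⟩ := hF U s x
    refine Set.mem_iUnion.2 ⟨⟨m, hm⟩, V, g, v, hv, ?_⟩
    rw [map_nsmul]
    exact hg
  obtain ⟨T, hT⟩ := isCompact_univ.elim_finite_subcover W hW (by rw [hcov])
  have hmem : ∀ S : Finset N, (∏ m ∈ S, (m : ℕ)) ∈ N := by
    classical
    intro S
    induction S using Finset.induction_on with
    | empty => simpa using hN.one_mem
    | insert a S ha ih =>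
      rw [Finset.prod_insert ha]
      exact hN.mul_mem a.2 ih
  refine ⟨∏ m ∈ T, (m : ℕ), hmem T, ?_⟩
  apply EtSections.eq_zero_of_vanishesAt F U
  intro x
  obtain ⟨m, hm⟩ := Set.mem_iUnion.1 (hT (Set.mem_univ x))
  obtain ⟨hmT, V, g, v, hv, h0⟩ := Set.mem_iUnion.1 hm
  refine ⟨V, g, v, hv, ?_⟩
  obtain ⟨c, hc⟩ := Finset.dvd_prod_of_mem (fun m : N => (m : ℕ)) hmT
  rw [hc, mul_comm, mul_smul, map_nsmul, h0, smul_zero]

/-- `f_* F` is `N`-torsion for `F` `N`-torsion and `f` quasi-compact. -/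
theorem torsionN_push {N : Set ℕ} (hN : IsOrd N) (f : X ⟶ Y) [QuasiCompact f] (F : EtCoh.Ab X)
    (hF : TorsionN N F) : TorsionN N ((EtCoh.push f).obj F) := by
  intro U s x
  obtain ⟨V, g, hV, -, v, hv⟩ := Groth.Agent.Etrest.Site0.exists_affine U x
  have := compactSpace_bc f V hV
  obtain ⟨m, hm, h⟩ := exists_nsmul_eq_zero hN F hF ((EtCoh.bc f).obj V)
    (((EtCoh.push f).obj F).obj.map g.op s)
  exact ⟨V, g, m, ⟨v, hv⟩, hm, h⟩

end Groth.Agent.Etbc.H233.LTorsPush
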