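import Groth.Agent.Etbc.H216.StrictLocVan
import Groth.Agent.Etbc.H233.ColimRng
import Groth.Agent.Etbc.H233.LTorsPush

/-!
# Bijectivity of pullback maps on `X ×_Y Spec R`, `R` strictly henselian, through étale neighbourhoods

`rng_of_nbhd`: let `p : Spec R ⟶ Y` be a strict localization, `X' = X ×_Y Spec R`, `k : X'' ⟶ X'`.  If `Rng k - n`
holds for the inverse images of all `L`-torsion sheaves on the `X ×_Y U`, `U ⟶ Y` affine étale neighbourhoods
through which `p` factors, then `Rng k F n` for all `L`-torsion sheaves `F` on `X'`.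
-/

set_option autoImplicit false
universe u
open CategoryTheory CategoryTheory.Limits AlgebraicGeometry Opposite IsLocalRing

namespace Groth.Agent.Etbc.H233.NbhdRng

open Groth.Agent.Etrest.StrictLoc Groth.Agent.EtpbcB Groth.Agent.EtpbcB.OshHens
open Groth.Agent.EtpbcB.StrictLoc Groth.Agent.EtpbcA
open Groth.Agent.Etbc.H216.StrictLocEt Groth.Agent.Etbc.H216.StrictLocVan
open Groth.Agent.Etbc.H233.Shift Groth.Agent.Etbc.H233.ColimRng

attribute [local instance] Shift.pfl

theorem rng_of_nbhd {X Y X' X'' : Scheme.{u}} (f : X ⟶ Y) [QuasiCompact f]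
    [QuasiSeparated f] {R : Type u} [CommRing R] [IsLocalRing R] {p : Spec (CommRingCat.of R) ⟶ Y}
    (hp : IsStrictLoc p) {a : X' ⟶ X} {f' : X' ⟶ Spec (CommRingCat.of R)} (h : IsPullback a f' f p)
    (k : X'' ⟶ X') [CompactSpace X''] [QuasiSeparatedSpace X''] (L : Set ℕ) (n : ℕ)
    (H : ∀ (U : Y.Etale) [IsAffine U.left] (l : Spec (CommRingCat.of R) ⟶ U.left) (_ : l ≫ U.hom = p)
      (b : X' ⟶ ((EtCoh.bc f).obj U).left) (_ : b ≫ ((EtCoh.bc f).obj U).hom = a)
      (_ : IsPullback b f' (BCCalc.pr f U) l) (G : EtCoh.Ab ((EtCoh.bc f).obj U).left),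
      EtAcyc.IsLTorsion L G → Rng k ((EtCoh.pull b).obj G) n)
    (F : EtCoh.Ab X') (hF : EtAcyc.IsLTorsion L F) : Rng k F n := by
  obtain ⟨Ω, _, _, ξ, e, he, hep⟩ := exists_iso_Osh p hp
  have h' : IsPullback a (f' ≫ e) f (toBase ξ) :=
    IsPullback.of_iso h (Iso.refl _) (Iso.refl _) (asIso e) (Iso.refl _) (by simp) (by simp)
      (by simp) (by simp [hep])
  have hq1 : QuasiCompact f' := MorphismProperty.of_isPullback h inferInstance
  have hq2 : QuasiSeparated f' := MorphismProperty.of_isPullback h inferInstance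
  have hX1 : CompactSpace X' := QuasiCompact.compactSpace_of_compactSpace f'
  have hX2 : QuasiSeparatedSpace X' := quasiSeparatedSpace_of_quasiSeparated f'
  obtain ⟨hcol⟩ := CdColim.isColimit_phiCocone (DX ξ f) (coneX ξ f h') F (isLimitConeX ξ f h')
  refine Rng.of_isColimit k hcol n (fun j => ?_)
  obtain ⟨i⟩ := j
  let l : Spec (CommRingCat.of R) ⟶ ((D ξ).obj i).left := e ≫ leg ξ i
  have hl : l ≫ ((D ξ).obj i).hom = p := by
    rw [Category.assoc, leg_hom, hep]
  have hb : IsPullback (legX ξ f h' i) f' (BCCalc.pr f ((D ξ).obj i)) l := by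
    refine IsPullback.of_right (h₁₂ := ((EtCoh.bc f).obj ((D ξ).obj i)).hom) (v₁₃ := f)
      (h₂₂ := ((D ξ).obj i).hom) ?_ ?_ (BCCalc.isPullback_pr f ((D ξ).obj i)).flip
    · rw [legX_hom, hl]
      exact h
    · rw [legX_pr, Category.assoc]
  have hla : IsAffineHom l := inferInstance
  have hba : IsAffineHom (legX ξ f h' i) :=
    MorphismProperty.of_isPullback (P := @IsAffineHom) hb.flip hla
  exact H ((D ξ).obj i) l hl (legX ξ f h' i) (legX_hom ξ f h' i) hb _
    (LTorsPush.torsionN_push (isOrd_primesIn L) (legX ξ f h' i) F hF)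

end Groth.Agent.Etbc.H233.NbhdRng
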