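import Groth.Agent.Etbc.H233.GoodSqOps
import Groth.Agent.FlatA.ZMTFactor

/-!
# Base change for separated quasi-finite morphisms, from open immersions

`OpenBC g L n`: base change in a range holds for the quasi-compact open immersions `V ⟶ T`, `T` locally
quasi-finite over `Y`, and the projection `X ×_Y T ⟶ T`.
`goodSq_of_openBC`: then it holds for separated quasi-finite `V ⟶ D`, `D` affine, locally quasi-finite over `Y`.
-/

set_option autoImplicit false
universe u

open CategoryTheory CategoryTheory.Limits AlgebraicGeometry Opposite IsLocalRing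

namespace Groth.Agent.Etbc.H233.Stalk

/-- Base change in a range for quasi-compact open immersions. -/
def OpenBC {X Y : Scheme.{u}} (g : X ⟶ Y) (L : Set ℕ) (n : ℕ) : Prop :=
  ∀ (T : Scheme.{u}) (i : T ⟶ Y) [LocallyQuasiFinite i] [LocallyOfFiniteType i]
    (V : Scheme.{u}) (j : V ⟶ T) [IsOpenImmersion j] [QuasiCompact j],
    GoodSq L n j (pullback.snd g i) (pullback.fst (pullback.snd g i) j)
      (pullback.snd (pullback.snd g i) j) pullback.condition.symm

variable {X Y : Scheme.{u}} {g : X ⟶ Y} {L : Set ℕ} {n : ℕ}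

theorem OpenBC.of_isPullback (hg : OpenBC g L n) {T V X' V' : Scheme.{u}} (i : T ⟶ Y)
    [LocallyQuasiFinite i] [LocallyOfFiniteType i] (j : V ⟶ T) [IsOpenImmersion j] [QuasiCompact j]
    {gX : X' ⟶ X} {g' : X' ⟶ T} (H : IsPullback gX g' g i) {j' : V' ⟶ X'} {k : V' ⟶ V}
    (H' : IsPullback k j' j g') : GoodSq L n j g' j' k H'.w := by
  have H₁ : IsPullback (pullback.snd (pullback.snd g i) j) (pullback.fst (pullback.snd g i) j) j
    (pullback.snd g i) := (IsPullback.of_hasPullback _ _).flip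
  have h := hg T i V j
  exact GoodSq.of_iso H₁ H' (H.isoIsPullback _ _ (IsPullback.of_hasPullback g i))
    (H.isoIsPullback_hom_snd _ _ _) h

theorem goodSq_of_openBC (hg : OpenBC g L n) {D V D' V' : Scheme.{u}} [IsAffine D] (d : D ⟶ Y)
    [LocallyQuasiFinite d] [LocallyOfFiniteType d] (v : V ⟶ D) [LocallyQuasiFinite v]
    [LocallyOfFiniteType v] [QuasiCompact v] [IsSeparated v] {dX : D' ⟶ X} {gD : D' ⟶ D}
    (HD : IsPullback dX gD g d) {v' : V' ⟶ D'} {g' : V' ⟶ V} (HV : IsPullback g' v' v gD) :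
    GoodSq L n v gD v' g' HV.w := by
  obtain ⟨T, j, π, hT, hj, -, hπ, rfl⟩ := FlatA.ZMTFactor.exists_factor_of_isAffine v
  have hqc : QuasiCompact j := QuasiCompact.of_comp j π
  have HT : IsPullback (pullback.fst π gD) (pullback.snd π gD) π gD := IsPullback.of_hasPullback π gD
  generalize pullback π gD = T', pullback.fst π gD = gT, pullback.snd π gD = p' at HT
  obtain ⟨jj, h1, h2⟩ : ∃ jj : V' ⟶ T', jj ≫ gT = g' ≫ j ∧ jj ≫ p' = v' :=
    ⟨HT.lift (g' ≫ j) v' (by rw [Category.assoc]; exact HV.w), HT.lift_fst _ _ _, HT.lift_snd _ _ _⟩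
  subst h2
  have H₂ : IsPullback g' jj j gT := IsPullback.of_bot HV h1.symm HT
  have H₃ : IsPullback (p' ≫ dX) gT g (π ≫ d) := HT.flip.paste_horiz HD
  exact GoodSq.vcomp HT H₂.w (hg.of_isPullback (π ≫ d) j H₃ H₂) HV.w

end Groth.Agent.Etbc.H233.Stalk
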