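import Groth.Agent.Etbc.H228.AcycIff
import Groth.Agent.Etbc.H233.ZmtSq
import Groth.Agent.Etbc.H233.NbhdRng
import Groth.Agent.Desc.LQF

/-!
# From base change for open immersions to local `n`-acyclicity
-/

set_option autoImplicit false
universe u

open CategoryTheory CategoryTheory.Limits AlgebraicGeometry Opposite IsLocalRing

namespace Groth.Agent.Etbc.H233.Backward

open EtCoh Groth.Agent.Etrest.StrictLoc Groth.Agent.Etbc.H233.Shift Groth.Agent.Etbc.H233.Stalk
open Groth.Agent.Etbc.H228 Groth.Agent.Etbc.H228.AcycIff Groth.Agent.Etbc.H228.Converse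
open Groth.Agent.EtpbcB Groth.Agent.EtpbcB.StrictLoc

attribute [local instance] Shift.pfl

variable {X Y : Scheme.{u}} {g : X ⟶ Y} {L : Set ℕ} {n : ℕ}

/-- `n`-acyclicity may be checked on a cofinal system of étale schemes. -/
theorem isAcyclicN_of_cofinal (B : ∀ (W : Scheme.{u}), (W ⟶ Y) → Prop)
    (hB : Cofinal (fun V : Y.Etale => B V.left V.hom))
    (h : ∀ V : Y.Etale, B V.left V.hom → EtAcyc.CompN (EtAcyc.prj g V) L n) :
    EtAcyc.IsAcyclicN g L n := by
  intro V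
  refine compN_of_form (form_of_compN_cofinal
    (B := fun W : V.left.Etale => B W.left (W.hom ≫ V.hom)) ?_ (fun W hW => ?_))
  · intro W w
    obtain ⟨W', k, w', hw', hW'⟩ := hB (Scheme.Etale.mk (W.hom ≫ V.hom)) w
    let k' : W'.left ⟶ W.left := k.left
    have e : k' ≫ W.hom ≫ V.hom = W'.hom := Over.w k.hom
    have het : Etale (k' ≫ W.hom) := by
      have h1 : Etale W'.hom := W'.prop
      have h2 : Etale V.hom := V.prop
      rw [← e, ← Category.assoc] at h1
      exact Etale.of_comp (k' ≫ W.hom) V.hom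
    refine ⟨Scheme.Etale.mk (k' ≫ W.hom), MorphismProperty.Over.homMk k' rfl trivial, w', hw', ?_⟩
    change B W'.left ((k' ≫ W.hom) ≫ V.hom)
    rw [Category.assoc, e]
    exact hW'
  · exact compN_prj_prj V W (h (Scheme.Etale.mk (W.hom ≫ V.hom)) hW)

/-- The étale schemes over a strict localization `Spec R` of `Y` which descend to an affine étale
neighbourhood. -/
def Desc {R : Type u} [CommRing R] (σ : Spec (CommRingCat.of R) ⟶ Y) (W : Scheme.{u})
    (w : W ⟶ Spec (CommRingCat.of R)) : Prop :=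
  ∃ (D₀ : Scheme.{u}) (d : D₀ ⟶ Y) (l : Spec (CommRingCat.of R) ⟶ D₀) (V₀ : Scheme.{u})
    (v₀ : V₀ ⟶ D₀) (a : W ⟶ V₀), Etale d ∧ IsAffine D₀ ∧ Etale v₀ ∧ IsAffine V₀ ∧ l ≫ d = σ ∧
      IsPullback a w v₀ l

theorem cofinal_desc {R : Type u} [CommRing R] [IsLocalRing R] {σ : Spec (CommRingCat.of R) ⟶ Y}
    (hσ : IsStrictLoc σ) :
    Cofinal (fun V : (Spec (CommRingCat.of R)).Etale => Desc σ V.left V.hom) := by
  obtain ⟨Ω, _, _, ξ, e, he, hep⟩ := H216.StrictLocVan.exists_iso_Osh σ hσ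
  intro W w
  let c : Cone (DS ξ) := (cone ξ).extend e
  have hc : IsLimit c := @IsLimit.extendIso _ _ _ _ _ _ _ e he (isLimitCone ξ)
  have haff : ∀ {i j : Idx ξ} (f : i ⟶ j), IsAffineHom ((DS ξ).map f) := fun {i j} f =>
    inferInstanceAs (IsAffineHom ((D ξ).map f).left)
  obtain ⟨i₀⟩ := IsCofiltered.nonempty (C := Idx ξ)
  obtain ⟨i, -, V, hV, m, y, hy⟩ := EtpbcA.CdColim.exists_refine_pt (DS ξ) c hc i₀ W w
  refine ⟨(EtCoh.bc (c.π.app i)).obj V, m, y, hy, ((D ξ).obj i).left, ((D ξ).obj i).hom,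
    e ≫ leg ξ i, V.left, V.hom, pullback.fst V.hom (c.π.app i), ((D ξ).obj i).prop,
    inferInstance, V.prop, hV, ?_, ?_⟩
  · rw [Category.assoc, leg_hom, hep]
  · exact IsPullback.of_hasPullback V.hom (c.π.app i)

theorem rng_of_desc (hg : OpenBC g L n) {RY RX : Type u} [CommRing RY] [CommRing RX] [IsLocalRing RY]
    [IsLocalRing RX] {σ : Spec (CommRingCat.of RY) ⟶ Y} {ξ : Spec (CommRingCat.of RX) ⟶ X}
    (hσ : IsStrictLoc σ) (hξ : IsStrictLoc ξ) (β : RY →+* RX) [IsLocalHom β] (hβ : spm β ≫ σ = ξ ≫ g)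
    {W : Scheme.{u}} {w : W ⟶ Spec (CommRingCat.of RY)} (hW : Desc σ W w) (F : Ab W)
    (hF : EtAcyc.IsLTorsion L F) : Rng (pullback.fst w (spm β)) F n := by
  obtain ⟨D₀, d, l, V₀, v₀, a, hd, hD, hv, hV, hl, H⟩ := hW
  have hls : IsStrictLoc l := H216.StrictLocEt.isStrictLoc_of_etale d l (by rw [hl]; exact hσ)
  have c : IsAffineHom v₀ := inferInstance
  have c0 : IsAffineHom w := MorphismProperty.of_isPullback (P := @IsAffineHom) H c
  have c1 : IsAffine W := isAffine_of_isAffineHom w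
  have c2 : IsAffineHom (pullback.fst w (spm β)) := inferInstance
  have c3 : IsAffine (pullback w (spm β)) := isAffine_of_isAffineHom (pullback.fst w (spm β))
  refine NbhdRng.rng_of_nbhd v₀ hls H (pullback.fst w (spm β)) L n ?_ F hF
  intro U _ l' hl' b hb Hb G hG
  have hU : Etale U.hom := U.prop
  have Hpr := BCCalc.isPullback_pr v₀ U
  have c4 : Etale (BCCalc.pr v₀ U) := MorphismProperty.of_isPullback Hpr.flip hv
  have c5 : IsAffineHom (BCCalc.pr v₀ U) :=
    MorphismProperty.of_isPullback (P := @IsAffineHom) Hpr.flip inferInstance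
  have c6 : LocallyQuasiFinite (BCCalc.pr v₀ U) := Desc.LQF.of_etale _
  have c7 : LocallyQuasiFinite (U.hom ≫ d) := Desc.LQF.of_etale _
  have HD := IsPullback.of_hasPullback g (U.hom ≫ d)
  have c8 : Etale (pullback.fst g (U.hom ≫ d)) := inferInstance
  generalize pullback g (U.hom ≫ d) = D', pullback.fst g (U.hom ≫ d) = dX,
    pullback.snd g (U.hom ≫ d) = gD at HD c8
  have HV := IsPullback.of_hasPullback (BCCalc.pr v₀ U) gD
  generalize pullback (BCCalc.pr v₀ U) gD = V', pullback.fst (BCCalc.pr v₀ U) gD = g',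
    pullback.snd (BCCalc.pr v₀ U) gD = v' at HV
  have hGood := goodSq_of_openBC (D := U.left) hg (U.hom ≫ d) (BCCalc.pr v₀ U) HD HV
  have hl's : IsStrictLoc l' :=
    H216.StrictLocEt.isStrictLoc_of_etale U.hom l' (by rw [hl']; exact hls)
  have eτ : ξ ≫ g = (spm β ≫ l') ≫ U.hom ≫ d := by
    rw [← hβ, ← hl, ← hl']
    simp only [Category.assoc]
  obtain ⟨τ, hτ1, hτ2⟩ : ∃ τ : Spec (CommRingCat.of RX) ⟶ D', τ ≫ dX = ξ ∧ τ ≫ gD = spm β ≫ l' :=
    ⟨HD.lift _ _ eτ, HD.lift_fst _ _ _, HD.lift_snd _ _ _⟩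
  have hτ : IsStrictLoc τ := H216.StrictLocEt.isStrictLoc_of_etale dX τ (by rw [hτ1]; exact hξ)
  have ea : (pullback.fst w (spm β) ≫ b) ≫ BCCalc.pr v₀ U = (pullback.snd w (spm β) ≫ τ) ≫ gD := by
    rw [Category.assoc, Hb.w, pullback.condition_assoc, Category.assoc, hτ2]
  obtain ⟨a', ha1, ha2⟩ : ∃ a' : pullback w (spm β) ⟶ V', a' ≫ g' = pullback.fst w (spm β) ≫ b ∧
      a' ≫ v' = pullback.snd w (spm β) ≫ τ :=
    ⟨HV.lift _ _ ea, HV.lift_fst _ _ _, HV.lift_snd _ _ _⟩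
  have Ha : IsPullback a' (pullback.snd w (spm β)) v' τ := by
    refine IsPullback.of_right (h₁₂ := g') (v₁₃ := BCCalc.pr v₀ U) (h₂₂ := gD) ?_ ha2 HV
    rw [ha1, hτ2]
    exact (IsPullback.of_hasPullback w (spm β)).paste_horiz Hb
  have c9 : QuasiCompact v' := MorphismProperty.of_isPullback HV inferInstance
  have c10 : QuasiSeparated v' := MorphismProperty.of_isPullback HV inferInstance
  exact hGood.rng HV.w hl's hτ β hτ2.symm Hb Ha ha1.symm pullback.condition G hG

/-- Base change in the range `≤ n` for the quasi-compact open immersions into locally quasi-finite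
`Y`-schemes implies local `n`-acyclicity. -/
theorem isLocAcyclicN_of_openBC (hg : OpenBC g L n) : EtAcyc.IsLocAcyclicN g L n := by
  rw [EtAcyc.IsLocAcyclicN, H198.WeBC.onStrictLocalizations_iff]
  intro RY RX _ _ _ _ σ ξ hσ hξ β hβl hβ
  refine isAcyclicN_of_cofinal (Desc σ) (cofinal_desc hσ) (fun V hV F hF _ => ?_)
  exact rng_of_desc hg hσ hξ β hβ hV F hF

end Groth.Agent.Etbc.H233.Backward
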