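import Groth.Agent.EtpbcB.BCIso
import Groth.Agent.Ega2.LACBc

/-!
# The unit of `f⁻¹ ⊣ f_*` and étale localization on the base

`isIso_unit_of_etale`: if the unit for `f` is an isomorphism at `G` then so is the unit for the base change
of `f` along an étale `j` at `j⁻¹ G`.
-/

set_option autoImplicit false
universe u

open CategoryTheory CategoryTheory.Limits AlgebraicGeometry Opposite

namespace Groth.Agent.Etbc.H233.EtLoc

open EtCoh Groth.Agent.EtpbcB Groth.Agent.EtpbcB.BCCalc

variable {X Y X' W : Scheme.{u}} {f : X ⟶ Y} {j : W ⟶ Y} {f' : X' ⟶ W} {j' : X' ⟶ X}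

/-- `j'⁻¹ f⁻¹ G ≅ f'⁻¹ j⁻¹ G`. -/
noncomputable def cIso (w : j' ≫ f = f' ≫ j) (G : Ab Y) :
    (pull j').obj ((pull f).obj G) ≅ (pull f').obj ((pull j).obj G) :=
  (BCCalc.pullComp f j').app G ≪≫ (BCCalc.pullCongr w).app G ≪≫ ((BCCalc.pullComp j f').app G).symm

theorem sq_app (w : j' ≫ f = f' ≫ j) (F : Ab X') : (sq w).hom.app F =
    (pushComp f j').hom.app F ≫ (pushCongr w).hom.app F ≫ (pushComp j f').inv.app F := rfl

theorem unit_fac (w : j' ≫ f = f' ≫ j) (G : Ab Y) :
    (pull j).map ((pullPushAdj f).unit.app G) ≫ baseChange0 f j f' j' w ((pull f).obj G) ≫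
      (push f').map (cIso w G).hom = (pullPushAdj f').unit.app ((pull j).obj G) := by
  apply ((pullPushAdj j).homEquiv _ _).injective
  rw [Adjunction.homEquiv_unit, Adjunction.homEquiv_unit, Functor.map_comp, Functor.map_comp]
  change (pullPushAdj j).unit.app G ≫ (push j).map ((pull j).map ((pullPushAdj f).unit.app G)) ≫
    (push j).map (baseChange0 f j f' j' w ((pull f).obj G)) ≫ (push j).map ((push f').map (cIso w G).hom) =
    (pullPushAdj j).unit.app G ≫ (push j).map ((pullPushAdj f').unit.app ((pull j).obj G))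
  have h1 : (pullPushAdj j).unit.app G ≫ (push j).map ((pull j).map ((pullPushAdj f).unit.app G)) =
      (pullPushAdj f).unit.app G ≫ (pullPushAdj j).unit.app ((push f).obj ((pull f).obj G)) :=
    ((pullPushAdj j).unit.naturality ((pullPushAdj f).unit.app G)).symm
  have h2 := unit_baseChange0 w ((pull f).obj G)
  have h3 := BCCalc.unit_pullComp j f' G
  have h4 := BCCalc.unit_pullComp f j' G
  have h5 := BCCalc.unit_pullCongr w G
  rw [reassoc_of% h1, reassoc_of% h2]
  rw [h3, h4] at h5
  -- cancel `j_* f'_* (pullComp) ≫ pushComp`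
  rw [← cancel_mono ((push j).map ((push f').map ((BCCalc.pullComp j f').hom.app G)) ≫
    (pushComp j f').hom.app ((pull (f' ≫ j)).obj G))]
  refine Eq.trans ?_ ((Category.assoc _ _ _).trans h5).symm
  let α : (pull j').obj ((pull f).obj G) ⟶ (pull (j' ≫ f)).obj G := (BCCalc.pullComp f j').hom.app G
  let β : (pull (j' ≫ f)).obj G ⟶ (pull (f' ≫ j)).obj G := (BCCalc.pullCongr w).hom.app G
  have h6 : (push j).map ((push f').map (cIso w G).hom) ≫
      (push j).map ((push f').map ((BCCalc.pullComp j f').hom.app G)) ≫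
        (pushComp j f').hom.app ((pull (f' ≫ j)).obj G) =
      (pushComp j f').hom.app ((pull j').obj ((pull f).obj G)) ≫ (push (f' ≫ j)).map (α ≫ β) := by
    rw [← Functor.map_comp_assoc, ← Functor.map_comp]
    have h7 : (cIso w G).hom ≫ (BCCalc.pullComp j f').hom.app G = α ≫ β := by
      simp [cIso, α, β]
    rw [h7]
    exact (pushComp j f').hom.naturality (α ≫ β)
  have h8 : (pushCongr w).hom.app ((pull j').obj ((pull f).obj G)) ≫ (push (f' ≫ j)).map (α ≫ β) =
      (push (j' ≫ f)).map (α ≫ β) ≫ (pushCongr w).hom.app ((pull (f' ≫ j)).obj G) :=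
    ((pushCongr w).hom.naturality (α ≫ β)).symm
  have h9 : (pushComp f j').hom.app ((pull j').obj ((pull f).obj G)) ≫ (push (j' ≫ f)).map α =
      (push f).map ((push j').map α) ≫ (pushComp f j').hom.app ((pull (j' ≫ f)).obj G) :=
    ((pushComp f j').hom.naturality α).symm
  simp only [Category.assoc]
  rw [h6, sq_app]
  simp only [Category.assoc]
  congr 2
  have h10 : (pushComp j f').inv.app ((pull j').obj ((pull f).obj G)) ≫
      (pushComp j f').hom.app ((pull j').obj ((pull f).obj G)) = 𝟙 _ :=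
    (pushComp j f').inv_hom_id_app _
  rw [reassoc_of% h10, h8, Functor.map_comp, Category.assoc, reassoc_of% h9]

theorem isIso_unit_of_etale [Etale j] (H : IsPullback j' f' f j) (G : Ab Y)
    (h : IsIso ((pullPushAdj f).unit.app G)) :
    IsIso ((pullPushAdj f').unit.app ((pull j).obj G)) := by
  have i1 : IsIso (baseChange0 f j f' j' H.w ((pull f).obj G)) :=
    Ega2.LACBc.isIso_baseChange0_of_etale H _
  rw [← unit_fac H.w G]
  infer_instance

end Groth.Agent.Etbc.H233.EtLoc
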