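import Groth.Agent.Sga4h.PushDer
import Groth.Agent.Sga4h.IntPushZero
import Groth.Agent.S0655
import Groth.Agent.EtpbcB.BCCalc

/-!
# Units and higher direct images after base change along an integral morphism

`XT = X ×_S T`, `b : T ⟶ S` integral, `h : X ⟶ S`, `hT : XT ⟶ T`:
* `isIso_unit_iff`: the unit for `hT` at `G` is an isomorphism iff the unit for `h` at `b_* G` is;
* `isZero_Rpush_iff`: `R^q hT_* hT⁻¹ G = 0` iff `R^q h_* h⁻¹ b_* G = 0`.
-/

set_option autoImplicit false
universe u

open CategoryTheory CategoryTheory.Limits AlgebraicGeometry Opposite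

namespace Groth.Agent.Etbc.H233.IntBC

open EtCoh Groth.Agent.EtpbcB.BCCalc Groth.Agent.Sga4h

variable {X S T XT : Scheme.{u}} {h : X ⟶ S} {b : T ⟶ S} [IsIntegralHom b] {bX : XT ⟶ X}
  {hT : XT ⟶ T} (H : IsPullback bX hT h b)

include H in
theorem isIso_unit_iff (G : Ab T) : IsIso ((pullPushAdj hT).unit.app G) ↔
    IsIso ((pullPushAdj h).unit.app ((push b).obj G)) := by
  have i1 : IsIso (baseChange0 b h bX hT H.w.symm G) := S0655.result b h bX hT H.flip G
  have e := unit_baseChange0 H.w.symm G
  have := IntPushZero.reflectsIsomorphisms_push b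
  constructor
  · intro i2
    have i3 : IsIso ((pullPushAdj h).unit.app ((push b).obj G) ≫
      (push h).map (baseChange0 b h bX hT H.w.symm G)) := by
      rw [e]; infer_instance
    exact IsIso.of_isIso_comp_right _ ((push h).map (baseChange0 b h bX hT H.w.symm G))
  · intro i2
    have i3 : IsIso ((push b).map ((pullPushAdj hT).unit.app G) ≫
      (sq H.w.symm).hom.app ((pull hT).obj G)) := by
      rw [← e]; infer_instance
    have i4 : IsIso ((push b).map ((pullPushAdj hT).unit.app G)) :=
      IsIso.of_isIso_comp_right _ ((sq H.w.symm).hom.app ((pull hT).obj G))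
    exact isIso_of_reflects_iso _ (push b)

include H in
theorem nonempty_iso (G : Ab T) (q : ℕ) :
    Nonempty ((Rpush h q).obj ((pull h).obj ((push b).obj G)) ≅
      (push b).obj ((Rpush hT q).obj ((pull hT).obj G))) := by
  have i1 : IsIso (baseChange0 b h bX hT H.w.symm G) := S0655.result b h bX hT H.flip G
  have i2 : IsIntegralHom bX := MorphismProperty.of_isPullback H.flip inferInstance
  have i3 : PreservesFiniteColimits (push b) := Sga4A.EtSplit.preservesFiniteColimits_push b
  refine ⟨(Rpush h q).mapIso (asIso (baseChange0 b h bX hT H.w.symm G)) ≪≫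
    PushDer.rpushCompIso bX h _ (fun p hp => Sga4A.EtSplit.isZero_Rpush bX _ p hp) q ≪≫
    (PushDer.rpushCongr H.w q).app _ ≪≫ PushDer.rpushExactIso hT b _ q⟩

include H in
theorem isZero_Rpush_iff (G : Ab T) (q : ℕ) :
    IsZero ((Rpush hT q).obj ((pull hT).obj G)) ↔
      IsZero ((Rpush h q).obj ((pull h).obj ((push b).obj G))) := by
  obtain ⟨e⟩ := nonempty_iso H G q
  constructor
  · intro h0
    exact ((push b).map_isZero h0).of_iso e
  · intro h0
    exact IntPushZero.isZero_of_isZero_push b _ (h0.of_iso e.symm)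

end Groth.Agent.Etbc.H233.IntBC
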