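import Groth.Agent.Etbc.H228.AcycIff
import Groth.Agent.Etbc.H233.IntBC
import Groth.Agent.Etbc.H233.EtLoc
import Groth.Agent.Etbc.H233.Shift
import Groth.Agent.Etbc.H233.LTorsPush
import Groth.Agent.Etcore.ShriekBasic
import Groth.Agent.Sga4h.EtaleRes
import Groth.Agent.Sga4h.NcLimEt

/-!
# `n`-acyclicity after integral base change and restriction to a quasi-compact open subscheme

`rng_of_isAcyclicN`: if `h : X ⟶ S` is `n`-acyclic for `L`, `T ⟶ S` integral and `P ⊆ T` a quasi-compact open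
subscheme then for all `L`-torsion sheaves `F` on `P` the map `H^q(P, F) → H^q(X ×_S P, F)` is bijective for
`q ≤ n` and injective for `q = n + 1`.
-/

set_option autoImplicit false
universe u

open CategoryTheory CategoryTheory.Limits AlgebraicGeometry Opposite

namespace Groth.Agent.Etbc.H233.IntOpen

open EtCoh Groth.Agent.Etbc.H228 Groth.Agent.Etbc.H228.AcycIff Groth.Agent.Etbc.H233.Shift
  Groth.Agent.EtpbcB.TorsEtN

attribute [local instance] Shift.pfl

variable {X S T XT P P' : Scheme.{u}} {h : X ⟶ S} {b : T ⟶ S} {bX : XT ⟶ X} {hT : XT ⟶ T}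
  (H : IsPullback bX hT h b) {r : P ⟶ T} {r' : P' ⟶ XT} {k : P' ⟶ P} (Hr : IsPullback r' k hT r)
  {L : Set ℕ} {n : ℕ}

theorem form_of_isAcyclicN (hh : EtAcyc.IsAcyclicN h L n) : Form h L n :=
  form_of_compN_cofinal Converse.cofinal_true (fun W _ => hh W)

include H in
theorem form_of_integral [IsIntegralHom b] (hh : Form h L n) : Form hT L n := by
  intro G hG
  obtain ⟨h0, h1⟩ := hh ((push b).obj G) (LTorsPush.torsionN_push (isOrd_primesIn L) b G hG)
  exact ⟨(IntBC.isIso_unit_iff H G).2 h0, fun q hq1 hq2 => (IntBC.isZero_Rpush_iff H G q).2 (h1 q hq1 hq2)⟩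

include Hr in
theorem rng_of_form [IsOpenImmersion r] [QuasiCompact r] [QuasiCompact hT] [QuasiSeparated hT]
    (hh : Form hT L n) (F : Ab P) (hF : EtAcyc.IsLTorsion L F) : Rng k F n := by
  obtain ⟨h0, h1⟩ := hh ((push r).obj F) (LTorsPush.torsionN_push (isOrd_primesIn L) r F hF)
  have i0 : IsIso ((pullPushAdj k).unit.app ((pull r).obj ((push r).obj F))) :=
    EtLoc.isIso_unit_of_etale Hr _ h0
  have i1 : ∀ q : ℕ, 1 ≤ q → q ≤ n →
      IsZero ((Rpush k q).obj ((pull k).obj ((pull r).obj ((push r).obj F)))) := fun q hq1 hq2 =>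
    (Sga4h.NcLimEt.isZero_Rpush_pull hT r k r' Hr _ q (h1 q hq1 hq2)).of_iso
      ((Rpush k q).mapIso (EtLoc.cIso Hr.w _)).symm
  have i2 : Rng k ((pull r).obj ((push r).obj F)) n := CompLow.Hpull_low k _ n i1
  have i3 : EtShriek.JCont r := Sga4h.EtaleRes.jCont r
  have i4 : IsIso (pullPushAdj r).counit := inferInstance
  exact i2.of_iso (asIso ((pullPushAdj r).counit.app F))

include H Hr in
theorem rng_of_isAcyclicN [IsIntegralHom b] [IsOpenImmersion r] [QuasiCompact r] [QuasiCompact hT]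
    [QuasiSeparated hT] (hh : EtAcyc.IsAcyclicN h L n) (F : Ab P) (hF : EtAcyc.IsLTorsion L F) :
    Rng k F n :=
  rng_of_form Hr (form_of_integral H (form_of_isAcyclicN hh)) F hF

end Groth.Agent.Etbc.H233.IntOpen
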