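import Groth.Agent.Etbc.H233.ZmtSq
import Groth.Agent.Etbc.H233.IntOpen

/-!
# From local `n`-acyclicity to base change for open immersions
-/

set_option autoImplicit false
universe u

open CategoryTheory CategoryTheory.Limits AlgebraicGeometry Opposite IsLocalRing

namespace Groth.Agent.Etbc.H233.Forward

open EtCoh Groth.Agent.Etrest.StrictLoc Groth.Agent.Etbc.H233.Shift Groth.Agent.Etbc.H233.Stalk

attribute [local instance] Shift.pfl

variable {X Y : Scheme.{u}} {g : X ⟶ Y} {L : Set ℕ} {n : ℕ}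

theorem goodSq_of_isLocAcyclicN (hg : EtAcyc.IsLocAcyclicN g L n) {T V X' V' : Scheme.{u}} (i : T ⟶ Y)
    [LocallyQuasiFinite i] [LocallyOfFiniteType i] (j : V ⟶ T) [IsOpenImmersion j] [QuasiCompact j]
    {gX : X' ⟶ X} {g' : X' ⟶ T} (hX : IsPullback gX g' g i) {j' : V' ⟶ X'} {k₀ : V' ⟶ V}
    (hV : IsPullback k₀ j' j g') : GoodSq L n j g' j' k₀ hV.w := by
  have c1 : QuasiCompact j' := MorphismProperty.of_isPullback hV inferInstance
  have c2 : QuasiSeparated j' := MorphismProperty.of_isPullback hV inferInstance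
  refine GoodSq.of_rng _ (fun x => ?_)
  obtain ⟨A, C, _, _, _, _, σ, τ, β, hσ, hτ, hβl, hβ, hx⟩ := LqfSL.exists_pair g' x
  obtain ⟨RS, RX, _, _, α, β₀, δ, hα, hP, hsq⟩ := LqfSL.exists_data hX hg hσ hτ β hβ
  have Hσ := IsPullback.of_hasPullback j σ
  have Hτ := IsPullback.of_hasPullback j' τ
  generalize pullback j σ = P, pullback.fst j σ = a, pullback.snd j σ = r at Hσ
  generalize pullback j' τ = P', pullback.fst j' τ = a', pullback.snd j' τ = r' at Hτ
  have e1 : (a' ≫ k₀) ≫ j = (r' ≫ spm β) ≫ σ := by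
    rw [Category.assoc, hV.w, ← Category.assoc, Hτ.w, Category.assoc, ← hβ, Category.assoc]
  obtain ⟨k, hk1, hk2⟩ : ∃ k : P' ⟶ P, k ≫ a = a' ≫ k₀ ∧ k ≫ r = r' ≫ spm β :=
    ⟨Hσ.lift _ _ e1, Hσ.lift_fst _ _ _, Hσ.lift_snd _ _ _⟩
  have Hk : IsPullback k r' r (spm β) := by
    refine IsPullback.of_right (h₁₂ := a) (v₁₃ := j) (h₂₂ := σ) ?_ hk2 Hσ
    rw [hk1, hβ]
    exact Hτ.paste_horiz hV
  have c3 : IsIntegralHom (spm α) := (IsIntegralHom.SpecMap_iff).2 hα
  have c4 : IsOpenImmersion r := MorphismProperty.of_isPullback Hσ inferInstance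
  have c5 : QuasiCompact r := MorphismProperty.of_isPullback Hσ inferInstance
  refine ⟨A, C, inferInstance, inferInstance, inferInstance, inferInstance, σ, τ, β, P, P', a, r, a', r', k,
    hσ, hτ, hβl, hβ, hx, Hσ, Hτ, hk1, hk2, fun F hF => ?_⟩
  exact IntOpen.rng_of_isAcyclicN hsq Hk.flip hP _ (EtpbcB.TorsEtN.torsionN_pull _ a F hF)

/-- If `g` is locally `n`-acyclic for `L`, base change in the range `≤ n` holds for all quasi-compact open
immersions into locally quasi-finite `Y`-schemes. -/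
theorem openBC_of_isLocAcyclicN (hg : EtAcyc.IsLocAcyclicN g L n) : OpenBC g L n :=
  fun _ i _ _ _ j _ _ => goodSq_of_isLocAcyclicN hg i j (IsPullback.of_hasPullback g i)
    (IsPullback.of_hasPullback (pullback.snd g i) j).flip

end Groth.Agent.Etbc.H233.Forward
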