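import Groth.Agent.Etbc.H198.WeBC

/-!
# Strict localizations of a locally quasi-finite base change

`exists_data`: for `X' = X ×_Y Y'` with `Y' ⟶ Y` locally quasi-finite, every morphism of strict localizations
`Spec C ⟶ Spec A` of `X' ⟶ Y'` is the base change, along an integral morphism, of a morphism of strict
localizations of `X ⟶ Y`.
-/

set_option autoImplicit false
universe u

open CategoryTheory CategoryTheory.Limits AlgebraicGeometry Opposite IsLocalRing TensorProduct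

namespace Groth.Agent.Etbc.H233.LqfSL

open Groth.Agent.Etrest.StrictLoc Groth.Agent.Etrest.VCBaseChange Groth.Agent.Sga1.UlaSL
  Groth.Agent.Etrest

theorem isPullback_of_ringEquiv {RS RS' RX RX' : Type u} [CommRing RS] [CommRing RS'] [CommRing RX]
    [CommRing RX'] [Algebra RS RS'] [Algebra RS RX] (γ : RS' →+* RX') (δ : RX →+* RX')
    (e : RS' ⊗[RS] RX ≃+* RX') (he : ∀ a b, e (a ⊗ₜ b) = γ a * δ b) :
    IsPullback (spm δ) (spm γ) (spm (algebraMap RS RX)) (spm (algebraMap RS RS')) := by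
  have h1 := CommRingCat.isPushout_tensorProduct RS RS' RX
  have h2 : IsPushout (CommRingCat.ofHom (algebraMap RS RS')) (CommRingCat.ofHom (algebraMap RS RX))
      (CommRingCat.ofHom γ) (CommRingCat.ofHom δ) := by
    refine h1.of_iso (Iso.refl _) (Iso.refl _) (Iso.refl _) e.toCommRingCatIso ?_ ?_ ?_ ?_
    · simp
    · simp
    · ext a
      have := he a 1
      simp only [map_one, mul_one] at this
      exact this
    · ext b
      have := he 1 b
      simp only [map_one, one_mul] at this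
      exact this
  exact (isPullback_SpecMap_of_isPushout _ _ _ _ h2).flip

theorem exists_data {X Y X' Y' : Scheme.{u}} {f : X ⟶ Y} {g : Y' ⟶ Y} [LocallyQuasiFinite g]
    [LocallyOfFiniteType g] {p₁ : X' ⟶ X} {f' : X' ⟶ Y'} (hX : IsPullback p₁ f' f g)
    {P : ∀ ⦃X' Y' : Scheme.{u}⦄, (X' ⟶ Y') → Prop} (hP : EtAcyc.OnStrictLocalizations f P)
    {RS' RX' : Type u} [CommRing RS'] [CommRing RX'] [IsLocalRing RS'] [IsLocalRing RX']
    {σ' : Spec (CommRingCat.of RS') ⟶ Y'} {ξ' : Spec (CommRingCat.of RX') ⟶ X'}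
    (hσ' : IsStrictLoc σ') (hξ' : IsStrictLoc ξ') (γ : RS' →+* RX') [IsLocalHom γ]
    (hγ : spm γ ≫ σ' = ξ' ≫ f') :
    ∃ (RS RX : Type u) (_ : CommRing RS) (_ : CommRing RX) (α : RS →+* RS') (β : RS →+* RX)
      (δ : RX →+* RX'), α.IsIntegral ∧ P (spm β) ∧ IsPullback (spm δ) (spm γ) (spm β) (spm α) := by
  have := hσ'.henselian
  have := hσ'.sepClosed
  have := hξ'.henselian
  have := hξ'.sepClosed
  obtain ⟨RX, _, _, ξ, hξ, hξpt⟩ := exists_isStrictLoc X (p₁ (ξ' (closedPoint RX')))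
  obtain ⟨RS, _, _, σ, hσ, hσpt⟩ := exists_isStrictLoc Y (f (p₁ (ξ' (closedPoint RX'))))
  have := hξ.henselian
  have := hξ.sepClosed
  have := hσ.henselian
  have := hσ.sepClosed
  obtain ⟨δ, hδloc, hδ⟩ := exists_map hξ (ξ' ≫ p₁) (by
    rw [hξpt]
    rfl)
  obtain ⟨α, hαloc, hα⟩ := exists_map hσ (σ' ≫ g) (by
    rw [hσpt]
    have h0 : σ' (closedPoint RS') = f' (ξ' (closedPoint RX')) := by
      rw [← closedPoint_map γ]
      exact congrArg (fun (k : Spec (CommRingCat.of RX') ⟶ Y') => k (closedPoint RX')) hγ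
    have h1 : (σ' ≫ g) (closedPoint RS') = (f' ≫ g) (ξ' (closedPoint RX')) := congrArg g h0
    rw [h1, ← hX.w]
    rfl)
  obtain ⟨β, hβloc, hβ, hδβ⟩ := exists_map_over hσ (ξ ≫ f) δ (γ.comp α) (by
      rw [spm_comp, Category.assoc, hα, ← Category.assoc, hγ, Category.assoc, ← hX.w,
        ← Category.assoc, ← hδ, Category.assoc])
  have hαint : α.IsIntegral :=
    StrictLocInt.isIntegral_of_isStrictLoc hσ hσ' α hα (fun w hw α₀ hα₀ =>
      StrictLocInt.isIntegral_stalk_of_locallyQuasiFinite (pullback.snd g σ) w hw α₀ hα₀)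
  let _ : Algebra RS RS' := α.toAlgebra
  let _ : Algebra RS RX := β.toAlgebra
  have : IsLocalHom (algebraMap RS RS') := hαloc
  have : IsLocalHom (algebraMap RS RX) := hβloc
  have : Algebra.IsIntegral RS RS' := ⟨hαint⟩
  obtain ⟨e, he⟩ := StrictLocTensor.exists_ringEquiv hX hσ hσ' hξ hξ' γ δ
    hα hβ hγ hδ hδβ.symm
  exact ⟨RS, RX, inferInstance, inferInstance, α, β, δ, hαint,
    (Etbc.H198.WeBC.onStrictLocalizations_iff f P).1 hP RS RX σ ξ hσ hξ β hβloc hβ,
    isPullback_of_ringEquiv γ δ e he⟩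

/-- Existence of a morphism of strict localizations through a given point. -/
theorem exists_pair {X Y : Scheme.{u}} (f : X ⟶ Y) (x : X) :
    ∃ (RS RX : Type u) (_ : CommRing RS) (_ : CommRing RX) (_ : IsLocalRing RS) (_ : IsLocalRing RX)
      (σ : Spec (CommRingCat.of RS) ⟶ Y) (ξ : Spec (CommRingCat.of RX) ⟶ X) (β : RS →+* RX),
      IsStrictLoc σ ∧ IsStrictLoc ξ ∧ IsLocalHom β ∧ spm β ≫ σ = ξ ≫ f ∧ ξ (closedPoint RX) = x := by
  obtain ⟨RX, _, _, ξ, hξ, hξpt⟩ := exists_isStrictLoc X x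
  obtain ⟨RS, _, _, σ, hσ, hσpt⟩ := exists_isStrictLoc Y (f x)
  have := hξ.henselian
  have := hξ.sepClosed
  obtain ⟨β, hβ, hβ'⟩ := exists_map hσ (ξ ≫ f) (by
    rw [hσpt, ← hξpt]
    rfl)
  exact ⟨RS, RX, _, _, _, _, σ, ξ, β, hσ, hξ, hβ, hβ', hξpt⟩

end Groth.Agent.Etbc.H233.LqfSL
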