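import Groth.Agent.Etbc.H233.Stalk
import Groth.Agent.Etbc.H233.LqfSL
import Groth.Agent.Sga4h.PushDer
import Groth.Agent.S0655
import Groth.Agent.Sga4A.IntegralSection

/-!
# Operations on `GoodSq`

* `GoodSq.vcomp`: composition of the vertical morphism with an integral morphism;
* `GoodSq.of_iso`: independence of the chosen fibre products.
-/

set_option autoImplicit false
universe u

open CategoryTheory CategoryTheory.Limits AlgebraicGeometry Opposite IsLocalRing

namespace Groth.Agent.Etbc.H233.Stalk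

open EtCoh Groth.Agent.EtpbcB Groth.Agent.EtpbcB.BCIso Groth.Agent.EtpbcB.BCCalc
  Groth.Agent.Etrest.StrictLoc Groth.Agent.Etcore.HpullCalc Groth.Agent.Etbc.H233.Shift
  Groth.Agent.EtpbcB.TorsSubN Groth.Agent.EtpbcB.TorsEtN Groth.Agent.Etcore.EtInst
open scoped Groth.Agent.Etcore.EtInst

attribute [local instance] Shift.pfl

variable {L : Set ℕ} {n : ℕ}

theorem GoodSq.vcomp {V T D V' T' D' : Scheme.{u}} {j : V ⟶ T} {p : T ⟶ D} [IsIntegralHom p]
    {g : D' ⟶ D} {p' : T' ⟶ D'} {gT : T' ⟶ T} (HT : IsPullback gT p' p g) {j' : V' ⟶ T'}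
    {g' : V' ⟶ V} (w : g' ≫ j = j' ≫ gT) (hG : GoodSq L n j gT j' g' w)
    (w' : g' ≫ (j ≫ p) = (j' ≫ p') ≫ g) : GoodSq L n (j ≫ p) g (j' ≫ p') g' w' := by
  intro J hJ
  obtain ⟨h0, h1⟩ := hG J hJ
  have i1 : IsIso (baseChange0 p g p' gT HT.w ((push j).obj (torsN (Ord L) J))) :=
    S0655.result p g p' gT HT _
  have i2 : IsIntegralHom p' := MorphismProperty.of_isPullback HT inferInstance
  have i3 : PreservesFiniteColimits (push p') := Sga4A.EtSplit.preservesFiniteColimits_push p'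
  refine ⟨?_, fun q hq1 hq2 => ?_⟩
  · have e := baseChange0_vpaste HT.w w w' (torsN (Ord L) J)
    have i4 : IsIso ((pull g).map ((pushComp p j).hom.app (torsN (Ord L) J)) ≫
        baseChange0 (j ≫ p) g (j' ≫ p') g' w' (torsN (Ord L) J)) := by
      rw [e]; infer_instance
    exact IsIso.of_isIso_comp_left ((pull g).map ((pushComp p j).hom.app (torsN (Ord L) J))) _
  · exact ((push p').map_isZero (h1 q hq1 hq2)).of_iso (Sga4h.PushDer.rpushExactIso j' p' _ q)

theorem GoodSq.of_iso {V D V' D' V₂ D₂ : Scheme.{u}} {v : V ⟶ D} {g : D' ⟶ D} {v' : V' ⟶ D'}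
    {g' : V' ⟶ V} [QuasiCompact v] [QuasiSeparated v]
    (H₁ : IsPullback g' v' v g) {g₂ : D₂ ⟶ D} {v₂ : V₂ ⟶ D₂} {g₂' : V₂ ⟶ V}
    (H₂ : IsPullback g₂' v₂ v g₂) (e : D₂ ≅ D') (he : e.hom ≫ g = g₂)
    (hG : GoodSq L n v g v' g' H₁.w) : GoodSq L n v g₂ v₂ g₂' H₂.w := by
  have c1 : QuasiCompact v' := MorphismProperty.of_isPullback H₁ inferInstance
  have c2 : QuasiSeparated v' := MorphismProperty.of_isPullback H₁ inferInstance
  have c3 : QuasiCompact v₂ := MorphismProperty.of_isPullback H₂ inferInstance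
  have c4 : QuasiSeparated v₂ := MorphismProperty.of_isPullback H₂ inferInstance
  refine GoodSq.of_rng H₂.w (fun x => ?_)
  obtain ⟨A, C, _, _, _, _, σ, τ, β, hσ, hτ, hβl, hβ, hx⟩ := LqfSL.exists_pair g (e.hom x)
  have hP := IsPullback.of_hasPullback v σ
  have hP' := IsPullback.of_hasPullback v' τ
  have hk : (pullback.fst v' τ ≫ g') ≫ v = (pullback.snd v' τ ≫ spm β) ≫ σ := by
    rw [Category.assoc, H₁.w, pullback.condition_assoc, Category.assoc, hβ]
  have e1 : e.inv ≫ g₂ = g := by rw [← he, e.inv_hom_id_assoc]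
  have ha : (pullback.fst v' τ ≫ g') ≫ v = (pullback.snd v' τ ≫ τ ≫ e.inv) ≫ g₂ := by
    rw [Category.assoc, H₁.w, pullback.condition_assoc, Category.assoc, Category.assoc, e1]
  have H₂' : IsPullback (H₂.lift _ _ ha) (pullback.snd v' τ) v₂ (τ ≫ e.inv) := by
    refine IsPullback.of_right (h₁₂ := g₂') (h₂₂ := g₂) (v₁₃ := v) ?_ (H₂.lift_snd _ _ _) H₂
    rw [H₂.lift_fst, Category.assoc, e1]
    exact hP'.paste_horiz H₁
  refine ⟨A, C, inferInstance, inferInstance, inferInstance, inferInstance, σ, τ ≫ e.inv, β,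
    pullback v σ, pullback v' τ, pullback.fst v σ, pullback.snd v σ, H₂.lift _ _ ha,
    pullback.snd v' τ, pullback.lift _ _ hk, hσ, hτ.comp e.inv, hβl, ?_, ?_, hP, H₂', ?_, ?_, ?_⟩
  · rw [hβ, Category.assoc, e1]
  · rw [Scheme.Hom.comp_apply, hx]
    have := congrArg (fun (k : D₂ ⟶ D₂) => k x) e.hom_inv_id
    exact this
  · rw [pullback.lift_fst, H₂.lift_fst]
  · rw [pullback.lift_snd]
  · intro F hF
    exact hG.rng H₁.w hσ hτ β hβ hP hP' (pullback.lift_fst _ _ _) (pullback.lift_snd _ _ _) F hF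

end Groth.Agent.Etbc.H233.Stalk
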