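import Groth.Agent.Ega2.LACBc
import Groth.Agent.EtpbcA.LAUnit
import Groth.Agent.EtpbcB.StrictLocStar
import Groth.Agent.Sga1.UlaSL
import Groth.Agent.Etbc.H233.Shift

/-!
# Degree zero base change at a point, in terms of strict localizations

`V' = V ×_D D'`, `τ : Spec C ⟶ D'`, `σ : Spec A ⟶ D` strict localizations, `β : A → C` local and compatible,
`P = V ×_D Spec A`, `P' = V' ×_{D'} Spec C`, `k : P' ⟶ P`.
* `UB_spm`: the unit for `Spec C ⟶ Spec A` is bijective on global sections;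
* `isIso_pull_iff_bijective`: the base change map `g⁻¹ v_* G ⟶ v'_* g'⁻¹ G` is an isomorphism at the point
  iff `H⁰(P, G) → H⁰(P', G)` is bijective.
-/

set_option autoImplicit false
set_option backward.isDefEq.respectTransparency.types false
universe u

open CategoryTheory CategoryTheory.Limits AlgebraicGeometry Opposite IsLocalRing

namespace Groth.Agent.Etbc.H233.PtBC

open EtCoh Groth.Agent.EtpbcB Groth.Agent.EtpbcB.BCIso Groth.Agent.EtpbcB.BCCalc
  Groth.Agent.Etrest.StrictLoc Groth.Agent.Etcore.HpullCalc Groth.Agent.Etbc.H233.Shift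

attribute [local instance] Shift.pfl

section bij

variable {X Y : Scheme.{u}}

lemma bijAt_comp_iff_left {F G H : Ab X} (φ : F ⟶ G) (ψ : G ⟶ H) (U : X.Etale) (h : BijAt φ U) :
    BijAt (φ ≫ ψ) U ↔ BijAt ψ U :=
  ⟨bijAt_of_comp_left φ ψ U h, bijAt_comp φ ψ U h⟩

lemma bijAt_comp_iff_right {F G H : Ab X} (φ : F ⟶ G) (ψ : G ⟶ H) (U : X.Etale) (h : BijAt ψ U) :
    BijAt (φ ≫ ψ) U ↔ BijAt φ U := by
  refine ⟨fun h2 => ?_, fun h2 => bijAt_comp φ ψ U h2 h⟩
  rw [bijAt_iff_isIso] at *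
  have : IsIso (φ.hom.app (op U) ≫ ψ.hom.app (op U)) := h2
  exact IsIso.of_isIso_comp_right _ (ψ.hom.app (op U))

end bij

section square

variable {X Y X' Y' X'' Y'' : Scheme.{u}} {f : X ⟶ Y} {g : Y' ⟶ Y} {f' : X' ⟶ Y'} {g' : X' ⟶ X}

lemma baseChange0_bijAt_top_iff (w : g' ≫ f = f' ≫ g) (F : Ab X)
    (h₁ : BijAt ((pullPushAdj g).unit.app ((push f).obj F)) (top Y)) :
    BijAt (baseChange0 f g f' g' w F) (top Y') ↔ BijAt ((pullPushAdj g').unit.app F) (top X) := by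
  rw [← bijAt_push_top g, ← bijAt_comp_iff_left _ _ _ h₁, unit_baseChange0,
    bijAt_comp_iff_right _ _ _ (bijAt_of_isIso _ _), bijAt_push_top]

variable {f'' : X'' ⟶ Y''} {h : Y'' ⟶ Y'} {h' : X'' ⟶ X'}

lemma bijAt_hpaste_iff (w₁ : g' ≫ f = f' ≫ g) (w₂ : h' ≫ f' = f'' ≫ h)
    (w : (h' ≫ g') ≫ f = f'' ≫ (h ≫ g)) (F : Ab X) (U : Y''.Etale)
    (i₂ : IsIso (baseChange0 f' h f'' h' w₂ ((pull g').obj F))) :
    BijAt (baseChange0 f (h ≫ g) f'' (h' ≫ g') w F) U ↔
      BijAt ((pull h).map (baseChange0 f g f' g' w₁ F)) U := by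
  rw [← bijAt_comp_iff_left ((pullComp g h).hom.app ((push f).obj F)) _ _ (bijAt_of_isIso _ _),
    baseChange0_hpaste w₁ w₂ w F]
  exact bijAt_comp_iff_right _ _ _ (bijAt_of_isIso _ _)

lemma bijAt_hpaste_iff' (w₁ : g' ≫ f = f' ≫ g) (w₂ : h' ≫ f' = f'' ≫ h)
    (w : (h' ≫ g') ≫ f = f'' ≫ (h ≫ g)) (F : Ab X) (U : Y''.Etale)
    (i₁ : IsIso (baseChange0 f g f' g' w₁ F)) :
    BijAt (baseChange0 f (h ≫ g) f'' (h' ≫ g') w F) U ↔
      BijAt (baseChange0 f' h f'' h' w₂ ((pull g').obj F)) U := by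
  rw [← bijAt_comp_iff_left ((pullComp g h).hom.app ((push f).obj F)) _ _ (bijAt_of_isIso _ _),
    baseChange0_hpaste w₁ w₂ w F, bijAt_comp_iff_left _ _ _ (bijAt_of_isIso _ _)]
  exact bijAt_comp_iff_right _ _ _ (bijAt_of_isIso _ _)

lemma bijAt_baseChange0_congr {Z : Scheme.{u}} {t₁ t₂ : Z ⟶ Y} {P : Scheme.{u}} {r : P ⟶ Z}
    {b₁ b₂ : P ⟶ X} (ht : t₁ = t₂) (hb : b₁ = b₂) (w₁ : b₁ ≫ f = r ≫ t₁) (w₂ : b₂ ≫ f = r ≫ t₂)
    (F : Ab X) (U : Z.Etale) :
    BijAt (baseChange0 f t₁ r b₁ w₁ F) U ↔ BijAt (baseChange0 f t₂ r b₂ w₂ F) U := by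
  subst ht; subst hb; rfl

end square

section closed

variable {A C : Type u} [CommRing A] [CommRing C] [IsLocalRing A] [IsLocalRing C]

/-- The unit for a local homomorphism of strictly henselian local rings is bijective on global
sections. -/
theorem UB_spm (hA : HenselianLocalRing A) (hC : HenselianLocalRing C)
    (hA' : IsSepClosed (ResidueField A)) (hC' : IsSepClosed (ResidueField C))
    (β : A →+* C) [IsLocalHom β] : UB (spm β) := by
  have h1 : UB (resPt C) := StrictLocStar.UB_closed (A := C) (Ω := ResidueField C) (resPt C)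
    (resPt_closedPoint C _)
  have h2 : UB (resPt C ≫ spm β) := by
    refine StrictLocStar.UB_closed (A := A) (Ω := ResidueField C) (resPt C ≫ spm β) ?_
    rw [Scheme.Hom.comp_apply, resPt_closedPoint C]
    exact Sga1.UlaSL.closedPoint_map β
  intro G
  have h3 := h2 G
  rw [BCCalc.unit_pullComp] at h3
  rwa [bijAt_comp_iff_right] at h3
  refine bijAt_comp _ _ _ ?_ (bijAt_comp _ _ _ (bijAt_of_isIso _ _) (bijAt_of_isIso _ _))
  rw [bijAt_push_top]
  exact h1 _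

theorem bijAt_top_iff_isIso_pull (hC : HenselianLocalRing C)
    (hC' : IsSepClosed (ResidueField C)) {G H : Ab (Spec (CommRingCat.of C))} (φ : G ⟶ H) :
    BijAt φ (top _) ↔ IsIso ((pull (resPt C)).map φ) :=
  EtpbcA.LA.bijAt_top_iff_pull (A := C) (Ω := ResidueField C) (resPt C) (resPt_closedPoint C _) φ

end closed

section main

variable {V D V' D' P P' : Scheme.{u}} {v : V ⟶ D} {g : D' ⟶ D} {v' : V' ⟶ D'} {g' : V' ⟶ V}
  (w : g' ≫ v = v' ≫ g)
  {A C : Type u} [CommRing A] [CommRing C] [IsLocalRing A] [IsLocalRing C]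
  {σ : Spec (CommRingCat.of A) ⟶ D} {τ : Spec (CommRingCat.of C) ⟶ D'}
  (hσ : IsStrictLoc σ) (hτ : IsStrictLoc τ) (β : A →+* C) [IsLocalHom β]
  (hβ : spm β ≫ σ = τ ≫ g)
  {a : P ⟶ V} {r : P ⟶ Spec (CommRingCat.of A)} (H : IsPullback a r v σ)
  {a' : P' ⟶ V'} {r' : P' ⟶ Spec (CommRingCat.of C)} (H' : IsPullback a' r' v' τ)
  {k : P' ⟶ P} (hk : k ≫ a = a' ≫ g') (hk' : k ≫ r = r' ≫ spm β)
  [QuasiCompact v] [QuasiSeparated v] [QuasiCompact v'] [QuasiSeparated v']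

include hσ hτ hβ H H' hk hk' in
theorem bijAt_iff_bijective (G : Ab V) :
    BijAt ((pull τ).map (baseChange0 v g v' g' w G)) (top _) ↔
      Function.Bijective (hp k ((pull a).obj G) 0) := by
  have e1 : IsIso (baseChange0 v' τ r' a' H'.w ((pull g').obj G)) :=
    Ega2.LACBc.isIso_baseChange0_of_isStrictLoc hτ H' _
  have e2 : IsIso (baseChange0 v σ r a H.w G) :=
    Ega2.LACBc.isIso_baseChange0_of_isStrictLoc hσ H _
  have w1 : (a' ≫ g') ≫ v = r' ≫ (τ ≫ g) := by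
    rw [Category.assoc, w, ← Category.assoc, H'.w, Category.assoc]
  have w2 : (k ≫ a) ≫ v = r' ≫ (spm β ≫ σ) := by
    rw [Category.assoc, H.w, ← Category.assoc, hk', Category.assoc]
  have hUB := UB_spm hσ.henselian hτ.henselian hσ.sepClosed hτ.sepClosed β
  rw [← bijAt_hpaste_iff w H'.w w1 G _ e1, bijAt_baseChange0_congr hβ.symm hk.symm w1 w2,
    bijAt_hpaste_iff' H.w hk' w2 G _ e2, baseChange0_bijAt_top_iff hk' _ (hUB _),
    bijective_hp_zero_iff, bijective_unitSec_iff]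
  rfl

include hσ hτ hβ H H' hk hk' in
/-- The base change map is an isomorphism at the point iff pullback is bijective on `H⁰`. -/
theorem isIso_pull_iff_bijective (G : Ab V) :
    IsIso ((pull (resPt C)).map ((pull τ).map (baseChange0 v g v' g' w G))) ↔
      Function.Bijective (hp k ((pull a).obj G) 0) := by
  rw [← bijAt_iff_bijective w hσ hτ β hβ H H' hk hk' G]
  exact (bijAt_top_iff_isIso_pull hτ.henselian hτ.sepClosed _).symm

end main

end Groth.Agent.Etbc.H233.PtBC
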