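import Groth.Agent.Etbc.H233.PtBC
import Groth.Agent.EtpbcB.RedVan
import Groth.Agent.EtpbcB.TorsVanN

/-!
# Base change for `L`-torsion sheaves in a range, in terms of strict localizations

`GoodSq L n v g v' g' w`: for every injective `J` on `V` the base change map `g⁻¹ v_* ⟶ v'_* g'⁻¹` is an
isomorphism at the `L`-torsion part `torsN (Ord L) J` and `R^q v'_* g'⁻¹ (torsN (Ord L) J) = 0` for
`1 ≤ q ≤ n`.
* `GoodSq.rng`: then for all pairs of strict localizations the pullback maps `H^q(P, G) → H^q(P', G)`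
  are bijective for `q ≤ n` and injective for `q = n + 1`, all `L`-torsion `G` on `V`;
* `GoodSq.of_rng`: the converse, one pair at each point is enough.
-/

set_option autoImplicit false
universe u

open CategoryTheory CategoryTheory.Limits AlgebraicGeometry Opposite IsLocalRing

namespace Groth.Agent.Etbc.H233.Stalk

open EtCoh Groth.Agent.EtpbcB Groth.Agent.EtpbcB.BCIso Groth.Agent.EtpbcB.BCCalc
  Groth.Agent.Etrest.StrictLoc Groth.Agent.Etcore.HpullCalc Groth.Agent.Etbc.H233.Shift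
  Groth.Agent.EtpbcB.TorsSubN Groth.Agent.EtpbcB.TorsEtN Groth.Agent.Etcore.EtInst
open scoped Groth.Agent.Etcore.EtInst

attribute [local instance] Shift.pfl

/-- Base change in a range for the `L`-torsion parts of injective sheaves. -/
def GoodSq (L : Set ℕ) (n : ℕ) {V D V' D' : Scheme.{u}} (v : V ⟶ D) (g : D' ⟶ D) (v' : V' ⟶ D')
    (g' : V' ⟶ V) (w : g' ≫ v = v' ≫ g) : Prop :=
  ∀ (J : Ab V), Injective J → IsIso (baseChange0 v g v' g' w (torsN (Ord L) J)) ∧
    ∀ q : ℕ, 1 ≤ q → q ≤ n → IsZero ((Rpush v' q).obj ((pull g').obj (torsN (Ord L) J)))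

section van

variable {V D P : Scheme.{u}} {v : V ⟶ D} [QuasiCompact v] [QuasiSeparated v] {A : Type u}
  [CommRing A] [IsLocalRing A] {σ : Spec (CommRingCat.of A) ⟶ D} (hσ : IsStrictLoc σ)
  {a : P ⟶ V} {r : P ⟶ Spec (CommRingCat.of A)} (H : IsPullback a r v σ)

include hσ H in
theorem subsingleton_of_isZero (F : Ab V) (q : ℕ) (h : IsZero ((Rpush v q).obj F)) :
    Subsingleton (HH P ((pull a).obj F) q) := by
  obtain ⟨_, _, _, e⟩ := Sga1.UlaSL.exists_specOf hσ _ rfl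
  have := hσ.sepClosed
  have h2 := PBCVan.van_of_isZero_Rpush v F q h (σ (closedPoint A)) A
  rw [e] at h2
  exact (subsingleton_H_iff _ _).1 ((PBCVan.van_iff H F q).1 h2)

include hσ H in
omit [QuasiCompact v] [QuasiSeparated v] in
theorem exists_van (F : Ab V) (q : ℕ) (h : Subsingleton (HH P ((pull a).obj F) q)) (s : D)
    (hs : σ (closedPoint A) = s) :
    ∃ (R : Type u) (_ : CommRing R) (_ : IsLocalRing R)
      (_ : Algebra (D.presheaf.stalk s) R) (_ : IsLocalHom (algebraMap (D.presheaf.stalk s) R))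
      (_ : Hensel.IsStrictHenselization (D.presheaf.stalk s) R),
        PBCVan.Van v (Hens2.specOf D s R) F q := by
  obtain ⟨i1, i2, i3, e⟩ := Sga1.UlaSL.exists_specOf hσ s hs
  refine ⟨A, inferInstance, inferInstance, i1, i2, i3, ?_⟩
  rw [e]
  exact (PBCVan.van_iff H F q).2 ((subsingleton_H_iff _ _).2 h)

end van

section main

variable {V D V' D' P P' : Scheme.{u}} {v : V ⟶ D} {g : D' ⟶ D} {v' : V' ⟶ D'} {g' : V' ⟶ V}
  (w : g' ≫ v = v' ≫ g) [QuasiCompact v] [QuasiSeparated v] [QuasiCompact v'] [QuasiSeparated v']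
  (L : Set ℕ) (n : ℕ)

/-- The comparison of the coefficients on `P'`. -/
noncomputable def coefIso {a : P ⟶ V} {a' : P' ⟶ V'} {k : P' ⟶ P} (hk : k ≫ a = a' ≫ g') (F : Ab V) :
    (pull k).obj ((pull a).obj F) ≅ (pull a').obj ((pull g').obj F) :=
  (EtCore.pullComp k a).symm.app F ≪≫ (EtCore.pullCongr hk).app F ≪≫ (EtCore.pullComp a' g').app F

variable {L n}

theorem GoodSq.rng (hG : GoodSq L n v g v' g' w)
    {A C : Type u} [CommRing A] [CommRing C] [IsLocalRing A] [IsLocalRing C]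
    {σ : Spec (CommRingCat.of A) ⟶ D} {τ : Spec (CommRingCat.of C) ⟶ D'}
    (hσ : IsStrictLoc σ) (hτ : IsStrictLoc τ) (β : A →+* C) [IsLocalHom β]
    (hβ : spm β ≫ σ = τ ≫ g)
    {a : P ⟶ V} {r : P ⟶ Spec (CommRingCat.of A)} (H : IsPullback a r v σ)
    {a' : P' ⟶ V'} {r' : P' ⟶ Spec (CommRingCat.of C)} (H' : IsPullback a' r' v' τ)
    {k : P' ⟶ P} (hk : k ≫ a = a' ≫ g') (hk' : k ≫ r = r' ≫ spm β)
    (F : Ab V) (hF : EtAcyc.IsLTorsion L F) : Rng k ((pull a).obj F) n := by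
  refine Rng.of_torsN L k a n (fun J hJ => ?_) F hF
  obtain ⟨h0, h1⟩ := hG J hJ
  refine Rng.of_van ?_ (fun q hq => ?_) (fun q hq1 hq2 => ?_)
  · rw [← PtBC.isIso_pull_iff_bijective w hσ hτ β hβ H H' hk hk']
    infer_instance
  · exact subsingleton_of_isZero hσ H _ q
      (TorsVanN.acyclic_push_torsN (isOrd_primesIn L) v J q hq)
  · have h2 := subsingleton_of_isZero hτ H' _ q (h1 q hq1 hq2)
    exact (HHcongr (coefIso hk (torsN (Ord L) J)) q).toEquiv.subsingleton

theorem GoodSq.of_rng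
    (h : ∀ x : D', ∃ (A C : Type u) (_ : CommRing A) (_ : CommRing C) (_ : IsLocalRing A)
      (_ : IsLocalRing C) (σ : Spec (CommRingCat.of A) ⟶ D) (τ : Spec (CommRingCat.of C) ⟶ D')
      (β : A →+* C) (P P' : Scheme.{u}) (a : P ⟶ V) (r : P ⟶ Spec (CommRingCat.of A))
      (a' : P' ⟶ V') (r' : P' ⟶ Spec (CommRingCat.of C)) (k : P' ⟶ P),
      IsStrictLoc σ ∧ IsStrictLoc τ ∧ IsLocalHom β ∧ spm β ≫ σ = τ ≫ g ∧ τ (closedPoint C) = x ∧
      IsPullback a r v σ ∧ IsPullback a' r' v' τ ∧ k ≫ a = a' ≫ g' ∧ k ≫ r = r' ≫ spm β ∧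
      ∀ F : Ab V, EtAcyc.IsLTorsion L F → Rng k ((pull a).obj F) n) :
    GoodSq L n v g v' g' w := by
  intro J hJ
  have hT : EtAcyc.IsLTorsion L (torsN (Ord L) J) := torsionN_torsN (isOrd_primesIn L) J
  refine ⟨?_, fun q hq1 hq2 => ?_⟩
  · refine Etcore.Stalks.isIso_of_stalks _ (fun x => ?_)
    obtain ⟨A, C, _, _, _, _, σ, τ, β, P, P', a, r, a', r', k, hσ, hτ, hβl, hβ, hx, H, H', hk, hk',
      hR⟩ := h x
    have := hτ.sepClosed
    refine ⟨ResidueField C, inferInstance, inferInstance, resPt C ≫ τ, ?_, ?_⟩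
    · rw [Scheme.Hom.comp_apply, resPt_closedPoint C, hx]
    · rw [EtpbcA.LA.isIso_stalk_iff_pull]
      have h3 := (PtBC.isIso_pull_iff_bijective w hσ hτ β hβ H H' hk hk' (torsN (Ord L) J)).2
        ((hR _ hT).1 0 (Nat.zero_le _))
      have h4 : IsIso ((pull τ ⋙ pull (resPt C)).map
        (baseChange0 v g v' g' w (torsN (Ord L) J))) := h3
      exact (NatIso.isIso_map_iff (EtCore.pullComp (resPt C) τ) _).2 h4
  · refine RedVan.isZero_Rpush_of_exists_van v' _ q (fun x => ?_)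
    obtain ⟨A, C, _, _, _, _, σ, τ, β, P, P', a, r, a', r', k, hσ, hτ, hβl, hβ, hx, H, H', hk, hk',
      hR⟩ := h x
    refine exists_van hτ H' _ q ?_ x hx
    have h1 := subsingleton_of_isZero hσ H _ q
      (TorsVanN.acyclic_push_torsN (isOrd_primesIn L) v J q hq1)
    have h2 := (hR _ hT).subsingleton h1 hq2
    exact (HHcongr (coefIso hk (torsN (Ord L) J)) q).symm.toEquiv.subsingleton

end main

end Groth.Agent.Etbc.H233.Stalk
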